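import Mathlib
import Cfsg.Agent.Helper11.SzMultA
import Cfsg.Agent.Helper17.J1Mult.A

/-!
# Stem extensions of groups with a semidihedral Sylow 2-subgroup and an elementary abelian Sylow
3-subgroup of order 9 inverted by an element

Abstract tools towards the triviality of the Schur multiplier of the Mathieu group `M₁₁`.
-/

set_option autoImplicit false

namespace Cfsg.Agent.Helper17.M11Mult

open scoped commutatorElement
open Cfsg.Agent.Helper11.SzMult

section normalForms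

variable {G : Type*} [Group G]

/-- normal form in a group generated by `ρ`, `τ` with `τ² = 1`, `ρ⁸ = 1`, `τ ρ τ⁻¹ = ρ³` -/
theorem sd_normal_form (ρ τ : G) (hρ : ρ ^ 8 = 1) (hτ : τ * τ = 1) (hc : τ * ρ * τ⁻¹ = ρ ^ 3)
    (g : G) (hg : g ∈ Subgroup.closure ({ρ, τ} : Set G)) : ∃ i j : ℕ, g = ρ ^ i * τ ^ j := by
  have hτi : τ⁻¹ = τ := inv_eq_of_mul_eq_one_left hτ
  have hρi : ρ⁻¹ = ρ ^ 7 := inv_eq_of_mul_eq_one_left (by rw [← pow_succ]; exact hρ)
  have h1 : ∀ k : ℕ, τ * ρ ^ k = ρ ^ (3 * k) * τ := by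
    intro k
    have : τ * ρ ^ k * τ⁻¹ = ρ ^ (3 * k) := by
      rw [← conj_pow, hc, ← pow_mul]
    rw [← this, inv_mul_cancel_right]
  have h2 : ∀ j k : ℕ, τ ^ j * ρ ^ k = ρ ^ (3 ^ j * k) * τ ^ j := by
    intro j
    induction j with
    | zero => intro k; simp
    | succ j ih =>
      intro k
      rw [pow_succ', mul_assoc, ih, ← mul_assoc, h1, mul_assoc, ← pow_succ', ← mul_assoc]
      congr 2
      ring
  induction hg using Subgroup.closure_induction with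
  | mem x hx =>
    rcases hx with rfl | rfl
    · exact ⟨1, 0, by simp⟩
    · exact ⟨0, 1, by simp⟩
  | one => exact ⟨0, 0, by simp⟩
  | mul x y _ _ hx hy =>
    obtain ⟨i, j, rfl⟩ := hx
    obtain ⟨k, l, rfl⟩ := hy
    refine ⟨i + 3 ^ j * k, j + l, ?_⟩
    rw [mul_assoc, ← mul_assoc (τ ^ j), h2, pow_add, pow_add]
    simp only [mul_assoc]
  | inv x _ hx =>
    obtain ⟨i, j, rfl⟩ := hx
    refine ⟨3 ^ j * (7 * i), j, ?_⟩
    rw [mul_inv_rev, ← inv_pow, ← inv_pow, hτi, hρi, ← pow_mul, h2]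

/-- normal form in a group generated by two commuting elements of finite order -/
theorem comm_normal_form (a b : G) (m : ℕ) (ha : a ^ (m + 1) = 1) (hb : b ^ (m + 1) = 1)
    (hab : a * b = b * a) (g : G) (hg : g ∈ Subgroup.closure ({a, b} : Set G)) :
    ∃ i j : ℕ, g = a ^ i * b ^ j := by
  have hai : a⁻¹ = a ^ m := inv_eq_of_mul_eq_one_left (by rw [← pow_succ]; exact ha)
  have hbi : b⁻¹ = b ^ m := inv_eq_of_mul_eq_one_left (by rw [← pow_succ]; exact hb)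
  have hc : Commute a b := hab
  induction hg using Subgroup.closure_induction with
  | mem x hx =>
    rcases hx with rfl | rfl
    · exact ⟨1, 0, by simp⟩
    · exact ⟨0, 1, by simp⟩
  | one => exact ⟨0, 0, by simp⟩
  | mul x y _ _ hx hy =>
    obtain ⟨i, j, rfl⟩ := hx
    obtain ⟨k, l, rfl⟩ := hy
    refine ⟨i + k, j + l, ?_⟩
    have h1 : b ^ j * a ^ k = a ^ k * b ^ j := ((hc.pow_pow k j).eq).symm
    rw [mul_assoc, ← mul_assoc (b ^ j), h1, pow_add, pow_add]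
    simp only [mul_assoc]
  | inv x _ hx =>
    obtain ⟨i, j, rfl⟩ := hx
    refine ⟨m * i, m * j, ?_⟩
    rw [mul_inv_rev, ← inv_pow, ← inv_pow, hai, hbi, ← pow_mul, ← pow_mul]
    exact ((hc.pow_pow (m * i) (m * j)).eq).symm

end normalForms

section sd

variable {H : Type*} [Group H]

/-- In a central extension `H` of a semidihedral group of order 16 (kernel `Z`), the derived subgroup
meets `Z` trivially. -/
theorem sd_commutator_inf (Z : Subgroup H) (hZ : Z ≤ Subgroup.center H) (r t : H)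
    (hnf : ∀ h : H, ∃ (i j : ℕ) (z : H), z ∈ Z ∧ h = r ^ i * t ^ j * z)
    (z₁ : H) (hz₁ : z₁ ∈ Z) (hconj : t * r * t⁻¹ = r ^ 3 * z₁) (ht2 : t * t ∈ Z)
    (hr : ∀ k : ℕ, r ^ k ∈ Z → 8 ∣ k) (x : H) (hx : x ∈ commutator H) (hxZ : x ∈ Z) : x = 1 := by
  have cz : ∀ z ∈ Z, ∀ g : H, g * z = z * g := fun z hz g => Subgroup.mem_center_iff.1 (hZ hz) g
  set c : H := r ^ 2 * z₁ with hc
  have hrz : Commute r z₁ := cz z₁ hz₁ r
  have hrc : Commute r c := (Commute.pow_right (Commute.refl r) 2).mul_right hrz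
  -- conjugating `r ^ n * z₁` by `t`
  have conjz : ∀ n : ℕ, t * (r ^ n * z₁) * t⁻¹ = (t * r * t⁻¹) ^ n * z₁ := by
    intro n
    have e : z₁ * t⁻¹ = t⁻¹ * z₁ := (cz z₁ hz₁ t⁻¹).symm
    rw [conj_pow]
    simp only [mul_assoc]
    rw [e]
  -- `t` conjugates `c` to `c ^ 3`
  have htc : t * c * t⁻¹ = c ^ 3 := by
    rw [hc, conjz 2, hconj]
    calc (r ^ 3 * z₁) ^ 2 * z₁ = r ^ 6 * z₁ ^ 3 := by
          rw [(hrz.pow_left 3).mul_pow, ← pow_mul, mul_assoc, ← pow_succ]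
      _ = (r ^ 2 * z₁) ^ 3 := by
          rw [(hrz.pow_left 2).mul_pow, ← pow_mul]
  -- `c ^ 4 = 1`
  have hc4 : c ^ 4 = 1 := by
    have h1 : t * (t * r * t⁻¹) * t⁻¹ = r := by
      calc t * (t * r * t⁻¹) * t⁻¹ = (t * t) * r * (t * t)⁻¹ := by group
        _ = r * (t * t) * (t * t)⁻¹ := by rw [← cz _ ht2 r]
        _ = r := mul_inv_cancel_right _ _
    have key : r ^ 9 * z₁ ^ 4 = r := by
      calc r ^ 9 * z₁ ^ 4 = (r ^ 3 * z₁) ^ 3 * z₁ := by
            rw [(hrz.pow_left 3).mul_pow, ← pow_mul, mul_assoc, ← pow_succ]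
        _ = (t * r * t⁻¹) ^ 3 * z₁ := by rw [hconj]
        _ = t * (r ^ 3 * z₁) * t⁻¹ := (conjz 3).symm
        _ = t * (t * r * t⁻¹) * t⁻¹ := by rw [hconj]
        _ = r := h1
    have h3 : r ^ 8 * z₁ ^ 4 = 1 := by
      have e9 : r ^ 9 = r * r ^ 8 := pow_succ' r 8
      have : r * (r ^ 8 * z₁ ^ 4) = r * 1 := by
        rw [← mul_assoc, ← e9, mul_one]; exact key
      exact mul_left_cancel this
    calc c ^ 4 = r ^ 8 * z₁ ^ 4 := by rw [hc, (hrz.pow_left 2).mul_pow, ← pow_mul]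
      _ = 1 := h3
  -- the cyclic group generated by `c` is normal
  have hfin : IsOfFinOrder c := isOfFinOrder_iff_pow_eq_one.2 ⟨4, by norm_num, hc4⟩
  have hKr : ∀ y ∈ Subgroup.zpowers c, ∀ i : ℕ, r ^ i * y * (r ^ i)⁻¹ ∈ Subgroup.zpowers c := by
    intro y hy i
    obtain ⟨m, rfl⟩ := Subgroup.mem_zpowers_iff.1 hy
    have : Commute (r ^ i) (c ^ m) := (hrc.pow_left i).zpow_right m
    rw [this.eq, mul_inv_cancel_right]
    exact Subgroup.zpow_mem_zpowers c m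
  have hKt1 : ∀ y ∈ Subgroup.zpowers c, t * y * t⁻¹ ∈ Subgroup.zpowers c := by
    intro y hy
    obtain ⟨m, rfl⟩ := Subgroup.mem_zpowers_iff.1 hy
    have : t * c ^ m * t⁻¹ = (t * c * t⁻¹) ^ m := (conj_zpow).symm
    rw [this, htc]
    exact Subgroup.zpow_mem _ (Subgroup.pow_mem _ (Subgroup.mem_zpowers c) 3) m
  have hKt : ∀ j : ℕ, ∀ y ∈ Subgroup.zpowers c, t ^ j * y * (t ^ j)⁻¹ ∈ Subgroup.zpowers c := by
    intro j
    induction j with
    | zero => intro y hy; simpa using hy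
    | succ j ih =>
      intro y hy
      have : t ^ (j + 1) * y * (t ^ (j + 1))⁻¹ = t * (t ^ j * y * (t ^ j)⁻¹) * t⁻¹ := by
        rw [pow_succ']; group
      rw [this]
      exact hKt1 _ (ih y hy)
  have hKn : (Subgroup.zpowers c).Normal := by
    refine ⟨fun y hy g => ?_⟩
    obtain ⟨i, j, z, hz, rfl⟩ := hnf g
    have e : r ^ i * t ^ j * z * y * (r ^ i * t ^ j * z)⁻¹ =
        r ^ i * (t ^ j * y * (t ^ j)⁻¹) * (r ^ i)⁻¹ := by
      have : z * y = y * z := (cz z hz y).symm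
      calc r ^ i * t ^ j * z * y * (r ^ i * t ^ j * z)⁻¹
          = r ^ i * t ^ j * (z * y) * z⁻¹ * (t ^ j)⁻¹ * (r ^ i)⁻¹ := by group
        _ = r ^ i * t ^ j * (y * z) * z⁻¹ * (t ^ j)⁻¹ * (r ^ i)⁻¹ := by rw [this]
        _ = r ^ i * (t ^ j * y * (t ^ j)⁻¹) * (r ^ i)⁻¹ := by group
    rw [e]
    exact hKr _ (hKt j y hy) i
  -- the quotient is commutative
  let π : H →* H ⧸ Subgroup.zpowers c := QuotientGroup.mk' (Subgroup.zpowers c)
  have hπ : ∀ g : H, π g = 1 ↔ g ∈ Subgroup.zpowers c := fun g => QuotientGroup.eq_one_iff g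
  have hπrt : Commute (π t) (π r) := by
    have h1 : t * r * t⁻¹ * r⁻¹ = c := by
      have e3 : r ^ 3 = r ^ 2 * r := pow_succ r 2
      rw [hconj, hc, mul_assoc, ← cz z₁ hz₁ r⁻¹, ← mul_assoc, e3, mul_inv_cancel_right]
    have h2 : π (t * r * t⁻¹ * r⁻¹) = 1 := by
      rw [hπ, h1]; exact Subgroup.mem_zpowers c
    rw [map_mul, map_mul, map_mul, map_inv, map_inv] at h2
    have h3 : π t * π r = π r * π t := by
      have := congrArg (fun y => y * π r * π t) h2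
      simp only [one_mul] at this
      rw [← this]; group
    exact h3
  have hπz : ∀ z ∈ Z, ∀ g : H, Commute (π z) (π g) := by
    intro z hz g
    show π z * π g = π g * π z
    rw [← map_mul, ← map_mul, (cz z hz g).symm]
  have hcomm : ∀ g₁ g₂ : H, Commute (π g₁) (π g₂) := by
    intro g₁ g₂
    obtain ⟨i, j, z, hz, rfl⟩ := hnf g₁
    obtain ⟨k, l, z', hz', rfl⟩ := hnf g₂
    simp only [map_mul, map_pow]
    have a1 : Commute (π r ^ i) (π r ^ k) := (Commute.refl (π r)).pow_pow i k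
    have a2 : Commute (π r ^ i) (π t ^ l) := (hπrt.symm).pow_pow i l
    have a3 : Commute (π t ^ j) (π r ^ k) := hπrt.pow_pow j k
    have a4 : Commute (π t ^ j) (π t ^ l) := (Commute.refl (π t)).pow_pow j l
    have b1 : ∀ y : H ⧸ Subgroup.zpowers c, (∃ g, π g = y) → Commute (π z) y := by
      rintro _ ⟨g, rfl⟩; exact hπz z hz g
    have b2 : ∀ y : H ⧸ Subgroup.zpowers c, (∃ g, π g = y) → Commute y (π z') := by
      rintro _ ⟨g, rfl⟩; exact (hπz z' hz' g).symm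
    have e1 : Commute (π r ^ i * π t ^ j) (π r ^ k * π t ^ l) :=
      ((a1.mul_right a2).mul_left (a3.mul_right a4))
    have e2 : Commute (π r ^ i * π t ^ j) (π z') :=
      b2 _ ⟨r ^ i * t ^ j, by simp only [map_mul, map_pow]⟩
    have e3 : Commute (π z) (π r ^ k * π t ^ l) :=
      b1 _ ⟨r ^ k * t ^ l, by simp only [map_mul, map_pow]⟩
    have e4 : Commute (π z) (π z') := hπz z hz z'
    exact ((e1.mul_right e2).mul_left (e3.mul_right e4))
  have hle : commutator H ≤ Subgroup.zpowers c := by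
    rw [commutator_eq_closure, Subgroup.closure_le]
    rintro _ ⟨g₁, g₂, rfl⟩
    rw [SetLike.mem_coe, ← hπ, map_commutatorElement, commutatorElement_eq_one_iff_commute]
    exact hcomm g₁ g₂
  -- conclusion
  have hxK := hle hx
  rw [← hfin.mem_powers_iff_mem_zpowers, Submonoid.mem_powers_iff] at hxK
  obtain ⟨k, rfl⟩ := hxK
  have h1 : c ^ k = r ^ (2 * k) * z₁ ^ k := by
    rw [hc, (hrz.pow_left 2).mul_pow, ← pow_mul]
  have h2 : r ^ (2 * k) ∈ Z := by
    have : r ^ (2 * k) = c ^ k * (z₁ ^ k)⁻¹ := by rw [h1, mul_inv_cancel_right]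
    rw [this]
    exact Z.mul_mem hxZ (Z.inv_mem (Z.pow_mem hz₁ k))
  have h3 : 8 ∣ 2 * k := hr _ h2
  have h4 : 4 ∣ k := by omega
  obtain ⟨m, rfl⟩ := h4
  rw [pow_mul, hc4, one_pow]

end sd

section kills

variable {Γ G : Type*} [Group Γ] [Group G]

theorem pow_odd_of_sq' {M : Type*} [Monoid M] (a : M) (h : a ^ 2 = 1) {n : ℕ} (hn : Odd n) :
    a ^ n = a := by
  obtain ⟨j, rfl⟩ := hn
  rw [pow_succ, pow_mul, h, one_pow, one_mul]

/-- kernel elements of order 2 of a stem extension die when a semidihedral subgroup of order 16 has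
odd index -/
theorem kills_of_semidihedral [Finite Γ] (σ : Γ →* G) (hσ : Function.Surjective σ)
    (hK : σ.ker ≤ Subgroup.center Γ) (ρ τ : G) (hρ : orderOf ρ = 8) (hτ : τ * τ = 1)
    (hc : τ * ρ * τ⁻¹ = ρ ^ 3) (hidx : Odd (Subgroup.closure ({ρ, τ} : Set G)).index)
    (a : Γ) (ha : a ∈ σ.ker) (hac : a ∈ commutator Γ) (h2 : a ^ 2 = 1) : a = 1 := by
  classical
  have hρ8 : ρ ^ 8 = 1 := by rw [← hρ]; exact pow_orderOf_eq_one ρ
  set R : Subgroup G := Subgroup.closure ({ρ, τ} : Set G) with hR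
  set H : Subgroup Γ := R.comap σ with hH
  have haH : a ∈ H := by
    rw [hH, Subgroup.mem_comap, MonoidHom.mem_ker.mp ha]
    exact Subgroup.one_mem _
  have htr := pow_index_mem_commutator H a (hK ha) hac haH
  have hHidx : H.index = R.index := Subgroup.index_comap_of_surjective _ hσ
  have hpow : (⟨a, haH⟩ : H) ^ H.index = ⟨a, haH⟩ := by
    apply pow_odd_of_sq'
    · exact Subtype.ext (by simpa using h2)
    · rw [hHidx]; exact hidx
  rw [hpow] at htr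
  obtain ⟨r0, hr0⟩ := hσ ρ
  obtain ⟨t0, ht0⟩ := hσ τ
  have hr0H : r0 ∈ H := by
    rw [hH, Subgroup.mem_comap, hr0]; exact Subgroup.subset_closure (by simp)
  have ht0H : t0 ∈ H := by
    rw [hH, Subgroup.mem_comap, ht0]; exact Subgroup.subset_closure (by simp)
  let Z : Subgroup H := (σ.ker).subgroupOf H
  have hZ : Z ≤ Subgroup.center H := by
    intro z hz
    rw [Subgroup.mem_center_iff]
    intro g
    have := Subgroup.mem_center_iff.1 (hK (Subgroup.mem_subgroupOf.1 hz)) (g : Γ)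
    exact Subtype.ext this
  have hZmem : ∀ z : H, z ∈ Z ↔ σ (z : Γ) = 1 := fun z => by
    rw [Subgroup.mem_subgroupOf, MonoidHom.mem_ker]
  have key := sd_commutator_inf Z hZ ⟨r0, hr0H⟩ ⟨t0, ht0H⟩ ?_
    (⟨(r0 ^ 3)⁻¹ * (t0 * r0 * t0⁻¹), ?_⟩) ?_ ?_ ?_ ?_ ⟨a, haH⟩ htr ((hZmem _).2 (MonoidHom.mem_ker.1 ha))
  · exact congrArg Subtype.val key
  · -- normal form
    intro h
    obtain ⟨i, j, hij⟩ := sd_normal_form ρ τ hρ8 hτ hc (σ (h : Γ)) h.2
    refine ⟨i, j, ⟨(r0 ^ i * t0 ^ j)⁻¹ * (h : Γ), ?_⟩, ?_, ?_⟩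
    · exact H.mul_mem (H.inv_mem (H.mul_mem (H.pow_mem hr0H i) (H.pow_mem ht0H j))) h.2
    · rw [hZmem]
      show σ ((r0 ^ i * t0 ^ j)⁻¹ * (h : Γ)) = 1
      rw [map_mul, map_inv, map_mul, map_pow, map_pow, hr0, ht0, hij, inv_mul_cancel]
    · apply Subtype.ext
      show (h : Γ) = r0 ^ i * t0 ^ j * ((r0 ^ i * t0 ^ j)⁻¹ * (h : Γ))
      rw [mul_inv_cancel_left]
  · exact H.mul_mem (H.inv_mem (H.pow_mem hr0H 3)) (H.mul_mem (H.mul_mem ht0H hr0H) (H.inv_mem ht0H))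
  · rw [hZmem]
    show σ ((r0 ^ 3)⁻¹ * (t0 * r0 * t0⁻¹)) = 1
    rw [map_mul, map_inv, map_pow, map_mul, map_mul, map_inv, hr0, ht0, hc, inv_mul_cancel]
  · apply Subtype.ext
    show t0 * r0 * t0⁻¹ = r0 ^ 3 * ((r0 ^ 3)⁻¹ * (t0 * r0 * t0⁻¹))
    rw [mul_inv_cancel_left]
  · rw [hZmem]
    show σ (t0 * t0) = 1
    rw [map_mul, ht0, hτ]
  · intro k hk
    rw [hZmem] at hk
    have : σ (r0 ^ k) = 1 := hk
    rw [map_pow, hr0] at this
    rw [← hρ]
    exact orderOf_dvd_of_pow_eq_one this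

/-- lifts of two commuting elements `a`, `b` (with `b³ = 1`) commute as soon as some element
centralises `a` and inverts `b` -/
theorem lifts_commute_of_inverting (σ : Γ →* G) (hK : σ.ker ≤ Subgroup.center Γ) (A B N : Γ)
    (hab : σ A * σ B = σ B * σ A) (hb3 : σ B ^ 3 = 1) (hna : σ N * σ A * (σ N)⁻¹ = σ A)
    (hnb : σ N * σ B * (σ N)⁻¹ = (σ B)⁻¹) : A * B = B * A := by
  have hcen : ⁅A, B⁆ ∈ Subgroup.center Γ := commute_of_map_commute σ hK hab
  have cz : ∀ g : Γ, g * ⁅A, B⁆ = ⁅A, B⁆ * g := Subgroup.mem_center_iff.1 hcen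
  -- conjugation by `N` fixes the commutator
  have e1 : ⁅N * A * N⁻¹, N * B * N⁻¹⁆ = ⁅A, B⁆ := by
    have : ⁅N * A * N⁻¹, N * B * N⁻¹⁆ = N * ⁅A, B⁆ * N⁻¹ := by
      simp only [commutatorElement_def]; group
    rw [this, cz N, mul_inv_cancel_right]
  have e2 : ⁅N * A * N⁻¹, N * B * N⁻¹⁆ = ⁅A, B⁻¹⁆ := by
    apply comm_congr σ hK
    · rw [map_mul, map_mul, map_inv, hna]
    · rw [map_mul, map_mul, map_inv, map_inv, hnb]
  have e3 : ⁅A, B⁻¹⁆ = ⁅A, B⁆⁻¹ := by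
    have e : ⁅A, B⁻¹⁆ = B⁻¹ * ⁅A, B⁆⁻¹ * B := by
      simp only [commutatorElement_def]; group
    have hcen' := Subgroup.inv_mem _ hcen
    rw [e, Subgroup.mem_center_iff.1 hcen' B⁻¹, inv_mul_cancel_right]
  have hsq : ⁅A, B⁆ * ⁅A, B⁆ = 1 := by
    have : ⁅A, B⁆ = ⁅A, B⁆⁻¹ := by rw [← e3, ← e2, e1]
    calc ⁅A, B⁆ * ⁅A, B⁆ = ⁅A, B⁆ * ⁅A, B⁆⁻¹ := by rw [← this]
      _ = 1 := mul_inv_cancel _
  have hB3 : B * B * B ∈ Subgroup.center Γ := by
    apply hK
    rw [MonoidHom.mem_ker, map_mul, map_mul, ← pow_three', hb3]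
  have hcube : ⁅A, B⁆ * ⁅A, B⁆ * ⁅A, B⁆ = 1 := by
    have h1 : ⁅A, B * B⁆ = ⁅A, B⁆ * ⁅A, B⁆ := comm_mul_right A B B (cz B)
    have h2 : ⁅A, B * B * B⁆ = ⁅A, B * B⁆ * ⁅A, B⁆ := comm_mul_right A (B * B) B (cz (B * B))
    rw [← h1, ← h2, commutatorElement_eq_one_iff_commute]
    exact (Subgroup.mem_center_iff.1 hB3 A)
  have hone : ⁅A, B⁆ = 1 := by
    rw [hsq, one_mul] at hcube
    exact hcube
  exact (commutatorElement_eq_one_iff_commute.1 hone).eq

/-- the preimage of an elementary abelian subgroup `⟨a, b⟩` of order 9 is commutative when some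
element centralises `a` and inverts `b` -/
theorem comm_of_inverting (σ : Γ →* G) (hσ : Function.Surjective σ)
    (hK : σ.ker ≤ Subgroup.center Γ) (a b n : G) (ha : a ^ 3 = 1) (hb : b ^ 3 = 1)
    (hab : a * b = b * a) (hna : n * a * n⁻¹ = a) (hnb : n * b * n⁻¹ = b⁻¹) (x y : Γ)
    (hx : σ x ∈ Subgroup.closure ({a, b} : Set G)) (hy : σ y ∈ Subgroup.closure ({a, b} : Set G)) :
    x * y = y * x := by
  obtain ⟨A, hA⟩ := hσ a
  obtain ⟨B, hB⟩ := hσ b
  obtain ⟨N, hN⟩ := hσ n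
  have hAB : Commute A B := lifts_commute_of_inverting σ hK A B N (by rw [hA, hB, hab])
    (by rw [hB, hb]) (by rw [hN, hA, hna]) (by rw [hN, hB, hnb])
  have hform : ∀ w : Γ, σ w ∈ Subgroup.closure ({a, b} : Set G) →
      ∃ (i j : ℕ) (z : Γ), z ∈ Subgroup.center Γ ∧ w = A ^ i * B ^ j * z := by
    intro w hw
    obtain ⟨i, j, hij⟩ := comm_normal_form a b 2 ha hb hab (σ w) hw
    refine ⟨i, j, (A ^ i * B ^ j)⁻¹ * w, hK ?_, by rw [mul_inv_cancel_left]⟩
    rw [MonoidHom.mem_ker, map_mul, map_inv, map_mul, map_pow, map_pow, hA, hB, hij, inv_mul_cancel]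
  obtain ⟨i, j, z, hz, rfl⟩ := hform x hx
  obtain ⟨k, l, z', hz', rfl⟩ := hform y hy
  have cz : ∀ g : Γ, Commute z g := fun g => (Subgroup.mem_center_iff.1 hz g).symm
  have cz' : ∀ g : Γ, Commute g z' := fun g => Subgroup.mem_center_iff.1 hz' g
  have a1 : Commute (A ^ i) (A ^ k) := (Commute.refl A).pow_pow i k
  have a2 : Commute (A ^ i) (B ^ l) := hAB.pow_pow i l
  have a3 : Commute (B ^ j) (A ^ k) := hAB.symm.pow_pow j k
  have a4 : Commute (B ^ j) (B ^ l) := (Commute.refl B).pow_pow j l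
  have e1 : Commute (A ^ i * B ^ j) (A ^ k * B ^ l) :=
    ((a1.mul_right a2).mul_left (a3.mul_right a4))
  exact (((e1.mul_right (cz' _)).mul_left ((cz _).mul_right (cz _)))).eq

end kills

end Cfsg.Agent.Helper17.M11Mult
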