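import Mathlib
import Cfsg.Agent.Helper17.M11Mult.A
import Cfsg.Agent.Helper20.DihedralStem
import Cfsg.Prelude.Def_KGroupFacts

/-!
# A group of order 7920 with a semidihedral Sylow 2-subgroup and a suitably inverted Sylow
3-subgroup has trivial Schur multiplier
-/

set_option autoImplicit false

namespace Cfsg.Agent.Helper17.M11Mult

open scoped commutatorElement
open Cfsg Cfsg.Agent.Helper17.J1Mult

universe u

section data

variable {G : Type u} [Group G] [Finite G]

theorem card_sd_closure (ρ τ : G) (hρ : orderOf ρ = 8) (hτ : τ * τ = 1)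
    (hc : τ * ρ * τ⁻¹ = ρ ^ 3) : Nat.card (Subgroup.closure ({ρ, τ} : Set G)) = 16 := by
  classical
  have hρ8 : ρ ^ 8 = 1 := by rw [← hρ]; exact pow_orderOf_eq_one ρ
  have hτ2 : τ ^ 2 = 1 := by rw [pow_two]; exact hτ
  set R : Subgroup G := Subgroup.closure ({ρ, τ} : Set G) with hR
  -- at most 16 elements
  have hle : Nat.card R ≤ 16 := by
    let f : Fin 8 × Fin 2 → R := fun p =>
      ⟨ρ ^ (p.1 : ℕ) * τ ^ (p.2 : ℕ), R.mul_mem (R.pow_mem (Subgroup.subset_closure (by simp)) _)
        (R.pow_mem (Subgroup.subset_closure (by simp)) _)⟩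
    have hf : Function.Surjective f := by
      rintro ⟨g, hg⟩
      obtain ⟨i, j, rfl⟩ := sd_normal_form ρ τ hρ8 hτ hc g hg
      refine ⟨(⟨i % 8, Nat.mod_lt _ (by norm_num)⟩, ⟨j % 2, Nat.mod_lt _ (by norm_num)⟩), ?_⟩
      apply Subtype.ext
      show ρ ^ (i % 8) * τ ^ (j % 2) = ρ ^ i * τ ^ j
      rw [← pow_eq_pow_mod i hρ8, ← pow_eq_pow_mod j hτ2]
    have := Nat.card_le_card_of_surjective f hf
    simpa using this
  -- a proper overgroup of `⟨ρ⟩`
  have hzle : Subgroup.zpowers ρ ≤ R := by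
    rw [Subgroup.zpowers_le]; exact Subgroup.subset_closure (by simp)
  have hdvd : 8 ∣ Nat.card R := by
    have := Subgroup.card_dvd_of_le hzle
    rwa [Nat.card_zpowers, hρ] at this
  have hne : Nat.card R ≠ 8 := by
    intro h8
    have heq : Subgroup.zpowers ρ = R := by
      apply Subgroup.eq_of_le_of_card_ge hzle
      rw [Nat.card_zpowers, hρ, h8]
    have hτm : τ ∈ Subgroup.zpowers ρ := by
      rw [heq]; exact Subgroup.subset_closure (by simp)
    obtain ⟨k, hk⟩ := Subgroup.mem_zpowers_iff.1 hτm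
    have hcomm : Commute τ ρ := by
      rw [← hk]; exact (Commute.refl ρ).zpow_left k
    have h1 : ρ = ρ ^ 3 := by
      rw [← hc, hcomm.eq, mul_inv_cancel_right]
    have h2 : ρ ^ 2 = 1 := by
      have e3 : ρ ^ 3 = ρ * ρ ^ 2 := pow_succ' ρ 2
      have : ρ * 1 = ρ * ρ ^ 2 := by rw [mul_one, ← e3]; exact h1
      exact (mul_left_cancel this).symm
    have h3 := orderOf_dvd_of_pow_eq_one h2
    rw [hρ] at h3
    norm_num at h3
  have hpos : 0 < Nat.card R := Nat.card_pos
  obtain ⟨m, hm⟩ := hdvd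
  have : m = 2 := by
    have h1 : m ≠ 1 := fun h => hne (by rw [hm, h])
    have h2 : m ≠ 0 := fun h => by rw [hm, h] at hpos; exact absurd hpos (by norm_num)
    have h3 : 8 * m ≤ 16 := hm ▸ hle
    omega
  rw [hm, this]

theorem nine_dvd_card_closure (a b : G) (ha : orderOf a = 3) (hb : orderOf b = 3)
    (hab : a * b = b * a) (hba : b ∉ Subgroup.zpowers a) :
    9 ∣ Nat.card (Subgroup.closure ({a, b} : Set G)) := by
  classical
  have ha3 : a ^ 3 = 1 := by rw [← ha]; exact pow_orderOf_eq_one a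
  have hb3 : b ^ 3 = 1 := by rw [← hb]; exact pow_orderOf_eq_one b
  set R : Subgroup G := Subgroup.closure ({a, b} : Set G) with hR
  have hp : IsPGroup 3 R := by
    rintro ⟨g, hg⟩
    obtain ⟨i, j, rfl⟩ := comm_normal_form a b 2 ha3 hb3 hab g hg
    refine ⟨1, ?_⟩
    apply Subtype.ext
    have hc : Commute (a ^ i) (b ^ j) := (show Commute a b from hab).pow_pow i j
    show (a ^ i * b ^ j) ^ (3 ^ 1) = 1
    rw [pow_one, hc.mul_pow, ← pow_mul, ← pow_mul, mul_comm i 3, mul_comm j 3, pow_mul, pow_mul,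
      ha3, hb3, one_pow, one_pow, one_mul]
  obtain ⟨k, hk⟩ := IsPGroup.iff_card.1 hp
  have hzle : Subgroup.zpowers a ≤ R := by
    rw [Subgroup.zpowers_le]; exact Subgroup.subset_closure (by simp)
  have hne : Nat.card R ≠ 3 := by
    intro h3
    have heq : Subgroup.zpowers a = R := by
      apply Subgroup.eq_of_le_of_card_ge hzle
      rw [Nat.card_zpowers, ha, h3]
    apply hba
    rw [heq]; exact Subgroup.subset_closure (by simp)
  have hdvd : 3 ∣ Nat.card R := by
    have := Subgroup.card_dvd_of_le hzle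
    rwa [Nat.card_zpowers, ha] at this
  have hk2 : 2 ≤ k := by
    by_contra hcon
    have hk' : k = 0 ∨ k = 1 := by omega
    rcases hk' with rfl | rfl
    · rw [hk] at hdvd; norm_num at hdvd
    · exact hne (by rw [hk]; norm_num)
  rw [hk]
  exact pow_dvd_pow 3 hk2

theorem sq_not_dvd_7920 (r : ℕ) (hr : r.Prime) (h2 : r ≠ 2) (h3 : r ≠ 3) : ¬ r ^ 2 ∣ 7920 := by
  intro h
  have hc : Nat.Coprime (r ^ 2) 144 := by
    have c2 : Nat.Coprime r 2 := (Nat.coprime_primes hr Nat.prime_two).2 h2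
    have c3 : Nat.Coprime r 3 := (Nat.coprime_primes hr Nat.prime_three).2 h3
    have e : (144 : ℕ) = 2 ^ 4 * 3 ^ 2 := by norm_num
    rw [e]
    exact Nat.Coprime.mul_right (Nat.Coprime.pow _ _ c2) (Nat.Coprime.pow _ _ c3)
  have e : (7920 : ℕ) = 144 * 55 := by norm_num
  rw [e] at h
  have h1 : r ^ 2 ∣ 55 := hc.dvd_of_dvd_mul_left h
  have h4 : r ∣ 55 := dvd_trans (dvd_pow_self r (by norm_num)) h1
  have e2 : (55 : ℕ) = 5 * 11 := by norm_num
  rw [e2] at h4
  have hp : ∀ q : ℕ, q.Prime → r ∣ q → r = q := fun q hq hd =>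
    (Nat.prime_dvd_prime_iff_eq hr hq).1 hd
  rcases (Nat.Prime.dvd_mul hr).1 h4 with h5 | h5
  · have := hp 5 (by norm_num) h5; subst this; norm_num at h1
  · have := hp 11 (by norm_num) h5; subst this; norm_num at h1

theorem sylow_cyclic_7920 (hcard : Nat.card G = 7920) (r : ℕ) [hr : Fact r.Prime] (h2 : r ≠ 2)
    (h3 : r ≠ 3) (R : Sylow r G) : IsCyclic ↥(R : Subgroup G) := by
  have hR := Sylow.card_eq_multiplicity R
  rw [hcard] at hR
  have hle : (7920 : ℕ).factorization r ≤ 1 := by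
    by_contra hcon
    have : 2 ≤ (7920 : ℕ).factorization r := by omega
    rw [← hr.out.pow_dvd_iff_le_factorization (by norm_num)] at this
    exact sq_not_dvd_7920 r hr.out h2 h3 this
  rcases Nat.le_one_iff_eq_zero_or_eq_one.1 hle with h | h
  · rw [h, pow_zero] at hR
    have : Subsingleton ↥(R : Subgroup G) := (Nat.card_eq_one_iff_unique.1 hR).1
    exact isCyclic_of_subsingleton
  · rw [h, pow_one] at hR
    exact isCyclic_of_prime_card hR

/-- the data: a semidihedral pair `ρ, τ` and an elementary abelian pair `a, b` with an element `n`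
centralising `a` and inverting `b`, in a group of order 7920 -/
theorem ker_eq_bot_of_data (hcard : Nat.card G = 7920)
    (ρ τ : G) (hρ : orderOf ρ = 8) (hτ : τ * τ = 1) (hc : τ * ρ * τ⁻¹ = ρ ^ 3)
    (a b n : G) (ha : orderOf a = 3) (hb : orderOf b = 3) (hab : a * b = b * a)
    (hba : b ∉ Subgroup.zpowers a) (hna : n * a * n⁻¹ = a) (hnb : n * b * n⁻¹ = b⁻¹)
    (Γ : Type u) [Group Γ] [Finite Γ] (σ : Γ →* G) (hσ : IsStemExtension σ) : σ.ker = ⊥ := by
  classical
  obtain ⟨hsurj, hK, hC⟩ := hσ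
  by_contra hne
  have hcardk : Nat.card σ.ker ≠ 1 := fun h => hne (Subgroup.card_eq_one.mp h)
  set r := (Nat.card σ.ker).minFac with hr
  have hrp : Fact r.Prime := ⟨Nat.minFac_prime hcardk⟩
  obtain ⟨x, hxo⟩ := exists_prime_orderOf_dvd_card' (G := σ.ker) r (Nat.minFac_dvd _)
  have hxr : (x : Γ) ^ r = 1 := by
    have := pow_orderOf_eq_one x
    rw [hxo] at this
    exact_mod_cast congrArg Subtype.val this
  have hx1 : (x : Γ) ≠ 1 := by
    intro h
    have : x = 1 := Subtype.ext h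
    rw [this, orderOf_one] at hxo
    exact hrp.out.one_lt.ne hxo
  apply hx1
  by_cases h2 : r = 2
  · have hidx : Odd (Subgroup.closure ({ρ, τ} : Set G)).index := by
      have h := (Subgroup.closure ({ρ, τ} : Set G)).card_mul_index
      rw [card_sd_closure ρ τ hρ hτ hc, hcard] at h
      have : (Subgroup.closure ({ρ, τ} : Set G)).index = 495 := by omega
      rw [this]; decide
    rw [h2] at hxr
    exact kills_of_semidihedral σ hsurj hK ρ τ hρ hτ hc hidx x x.2 (hC x.2) hxr
  by_cases h3 : r = 3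
  · have ha3 : a ^ 3 = 1 := by rw [← ha]; exact pow_orderOf_eq_one a
    have hb3 : b ^ 3 = 1 := by rw [← hb]; exact pow_orderOf_eq_one b
    have hidx : ¬ r ∣ (Subgroup.closure ({a, b} : Set G)).index := by
      rw [h3]
      intro hd
      have h := (Subgroup.closure ({a, b} : Set G)).card_mul_index
      rw [hcard] at h
      obtain ⟨m, hm⟩ := nine_dvd_card_closure a b ha hb hab hba
      obtain ⟨m', hm'⟩ := hd
      rw [hm, hm'] at h
      have h27 : 27 ∣ 7920 := ⟨m * m', by rw [← h]; ring⟩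
      norm_num at h27
    exact kills_of_comm σ hsurj hK r _ hidx
      (fun x y hx hy => comm_of_inverting σ hsurj hK a b n ha3 hb3 hab hna hnb x y hx hy)
      x x.2 (hC x.2) hxr
  · let R : Sylow r G := Classical.arbitrary _
    exact kills_of_cyclic σ hsurj hK r (R : Subgroup G) (Sylow.not_dvd_index R)
      (sylow_cyclic_7920 hcard r h2 h3 R) x x.2 (hC x.2) hxr

theorem multiplier_trivial_of_data (hcard : Nat.card G = 7920)
    (ρ τ : G) (hρ : orderOf ρ = 8) (hτ : τ * τ = 1) (hc : τ * ρ * τ⁻¹ = ρ ^ 3)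
    (a b n : G) (ha : orderOf a = 3) (hb : orderOf b = 3) (hab : a * b = b * a)
    (hba : b ∉ Subgroup.zpowers a) (hna : n * a * n⁻¹ = a) (hnb : n * b * n⁻¹ = b⁻¹) :
    HasCyclicSchurMultiplier G 1 :=
  Cfsg.Agent.Helper20.hasCyclicSchurMultiplier_one_of_forall_ker
    (fun Γ _ _ σ hσ =>
      ker_eq_bot_of_data hcard ρ τ hρ hτ hc a b n ha hb hab hba hna hnb Γ σ hσ)

end data

end Cfsg.Agent.Helper17.M11Mult
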