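import Mathlib
import Cfsg.Agent.Helper27.M11Out
import Cfsg.Agent.Helper17.M11Mult.B

/-!
# The Schur multiplier of the Mathieu group `M₁₁` is trivial

Explicit elements of Helper27's model `G0` of `M₁₁` (words in its two generators, evaluated on
permutation tables) realise the data of `multiplier_trivial_of_data`.
-/

set_option autoImplicit false

namespace Cfsg.Agent.Helper17.M11Mult

open Cfsg Cfsg.Agent.Helper27

/-- the table of a letter: `0 ↦ x`, otherwise `y` -/
def letT (a : ℕ) : List ℕ := if a = 0 then z0T else m11gY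

/-- the table of a word -/
def evT : List ℕ → List ℕ
  | [] => idT
  | a :: w => compT (letT a) (evT w)

noncomputable def letG (a : ℕ) : ↥G0 := if a = 0 then xG else yG

/-- the element of a word -/
noncomputable def evG : List ℕ → ↥G0
  | [] => 1
  | a :: w => letG a * evG w

theorem rep_letG (a : ℕ) : Represents ((letG a : ↥G0) : Equiv.Perm GolayPt) (letT a) := by
  unfold letG letT
  split_ifs
  · exact z0P_rep
  · exact yP_rep

theorem rep_evG (w : List ℕ) : Represents ((evG w : ↥G0) : Equiv.Perm GolayPt) (evT w) := by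
  induction w with
  | nil => exact represents_one
  | cons a w ih => exact represents_compT (rep_letG a) ih

theorem evG_append (w₁ w₂ : List ℕ) : evG (w₁ ++ w₂) = evG w₁ * evG w₂ := by
  induction w₁ with
  | nil => simp [evG]
  | cons a w ih => simp [evG, ih, mul_assoc]

theorem evG_eq_of_tbl {w₁ w₂ : List ℕ} (h : evT w₁ = evT w₂) : evG w₁ = evG w₂ :=
  Subtype.ext (represents_inj (rep_evG w₁) (h ▸ rep_evG w₂))

theorem evG_ne_of_tbl {w₁ w₂ : List ℕ} (h : evT w₁ ≠ evT w₂) : evG w₁ ≠ evG w₂ := fun e =>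
  h (represents_tbl_unique (rep_evG w₁) (e ▸ rep_evG w₂))

theorem evG_nil : evG [] = 1 := rfl

def wρ : List ℕ := [1, 1, 0, 1, 0, 1, 1, 0]
def wτ : List ℕ := [0]
def wa : List ℕ := [1, 1, 1, 0, 1, 1, 1, 0, 1, 0, 1, 1, 1, 0, 1, 0, 1, 0]
def wb : List ℕ := [1, 0, 1, 1, 1, 0, 1, 0, 1, 1, 1, 0]
def wn : List ℕ := [1, 0, 1, 1, 1]

theorem pow_two_eq (w : List ℕ) : evG w ^ 2 = evG (w ++ w) := by
  rw [pow_two, evG_append]

theorem pow_three_eq (w : List ℕ) : evG w ^ 3 = evG (w ++ w ++ w) := by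
  rw [pow_succ, pow_two, evG_append, evG_append]

theorem pow_four_eq (w : List ℕ) : evG w ^ 4 = evG (w ++ w ++ w ++ w) := by
  rw [pow_succ, pow_three_eq, evG_append (w ++ w ++ w)]

theorem pow_eight_eq (w : List ℕ) : evG w ^ 8 = evG (w ++ w ++ w ++ w ++ (w ++ w ++ w ++ w)) := by
  rw [evG_append, ← pow_four_eq, ← pow_add]

theorem order_ρ : orderOf (evG wρ) = 8 := by
  have : Fact (Nat.Prime 2) := ⟨Nat.prime_two⟩
  have h8 : evG wρ ^ (2 ^ (2 + 1)) = 1 := by
    show evG wρ ^ 8 = 1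
    rw [pow_eight_eq, ← evG_nil]
    exact evG_eq_of_tbl (by decide +kernel)
  have h4 : ¬ evG wρ ^ (2 ^ 2) = 1 := by
    show ¬ evG wρ ^ 4 = 1
    rw [pow_four_eq, ← evG_nil]
    exact evG_ne_of_tbl (by decide +kernel)
  exact orderOf_eq_prime_pow h4 h8

theorem τ_sq : evG wτ * evG wτ = 1 := by
  rw [← evG_append, ← evG_nil]
  exact evG_eq_of_tbl (by decide +kernel)

theorem τ_conj : evG wτ * evG wρ * (evG wτ)⁻¹ = evG wρ ^ 3 := by
  rw [mul_inv_eq_iff_eq_mul, pow_three_eq, ← evG_append, ← evG_append]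
  exact evG_eq_of_tbl (by decide +kernel)

theorem order_three (w : List ℕ) (h1 : evT (w ++ w ++ w) = evT []) (h2 : evT w ≠ evT []) :
    orderOf (evG w) = 3 := by
  have : Fact (Nat.Prime 3) := ⟨Nat.prime_three⟩
  apply orderOf_eq_prime
  · rw [pow_three_eq, ← evG_nil]; exact evG_eq_of_tbl h1
  · rw [← evG_nil]; exact evG_ne_of_tbl h2

theorem order_a : orderOf (evG wa) = 3 := order_three wa (by decide +kernel) (by decide +kernel)

theorem order_b : orderOf (evG wb) = 3 := order_three wb (by decide +kernel) (by decide +kernel)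

theorem ab_comm : evG wa * evG wb = evG wb * evG wa := by
  rw [← evG_append, ← evG_append]
  exact evG_eq_of_tbl (by decide +kernel)

theorem b_not_mem : evG wb ∉ Subgroup.zpowers (evG wa) := by
  intro h
  rw [mem_zpowers_iff_mem_range_orderOf, order_a] at h
  simp only [Finset.mem_image, Finset.mem_range] at h
  obtain ⟨k, hk, hkb⟩ := h
  interval_cases k
  · rw [pow_zero, ← evG_nil] at hkb
    exact evG_ne_of_tbl (w₁ := []) (w₂ := wb) (by decide +kernel) hkb
  · rw [pow_one] at hkb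
    exact evG_ne_of_tbl (w₁ := wa) (w₂ := wb) (by decide +kernel) hkb
  · rw [pow_two_eq] at hkb
    exact evG_ne_of_tbl (w₁ := wa ++ wa) (w₂ := wb) (by decide +kernel) hkb

theorem n_sq : evG wn * evG wn = 1 := by
  rw [← evG_append, ← evG_nil]
  exact evG_eq_of_tbl (by decide +kernel)

theorem n_inv : (evG wn)⁻¹ = evG wn := inv_eq_of_mul_eq_one_left n_sq

theorem n_conj_a : evG wn * evG wa * (evG wn)⁻¹ = evG wa := by
  rw [mul_inv_eq_iff_eq_mul, ← evG_append, ← evG_append]
  exact evG_eq_of_tbl (by decide +kernel)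

theorem n_conj_b : evG wn * evG wb * (evG wn)⁻¹ = (evG wb)⁻¹ := by
  rw [n_inv, eq_inv_iff_mul_eq_one, ← evG_append, ← evG_append, ← evG_append, ← evG_nil]
  exact evG_eq_of_tbl (by decide +kernel)

theorem multiplier_M11 : HasCyclicSchurMultiplier ↥Spor.M11 1 := by
  obtain ⟨e⟩ := nonempty_sporM11_equiv_G0
  have hinj : Function.Injective e.symm := e.symm.injective
  refine multiplier_trivial_of_data card_spor_M11 (e.symm (evG wρ)) (e.symm (evG wτ)) ?_ ?_ ?_
    (e.symm (evG wa)) (e.symm (evG wb)) (e.symm (evG wn)) ?_ ?_ ?_ ?_ ?_ ?_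
  · rw [MulEquiv.orderOf_eq, order_ρ]
  · rw [← map_mul, τ_sq, map_one]
  · rw [← map_inv, ← map_mul, ← map_mul, τ_conj, map_pow]
  · rw [MulEquiv.orderOf_eq, order_a]
  · rw [MulEquiv.orderOf_eq, order_b]
  · rw [← map_mul, ← map_mul, ab_comm]
  · intro h
    obtain ⟨k, hk⟩ := Subgroup.mem_zpowers_iff.1 h
    rw [← map_zpow] at hk
    exact b_not_mem (Subgroup.mem_zpowers_iff.2 ⟨k, hinj hk⟩)
  · rw [← map_inv, ← map_mul, ← map_mul, n_conj_a]
  · rw [← map_inv, ← map_mul, ← map_mul, n_conj_b, map_inv]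

end Cfsg.Agent.Helper17.M11Mult
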